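import Cfsg.Agent.Lib.OrthAct.Stab

/-!
# Classes of maximal totally singular subspaces

* `finrank_inf_flip` : a reflection changes the parity of the intersection of maximal singular subspaces
* `dick_eq_parity` : `dick g = (-1)^(m - dim (U ∩ gU))`
* `quadPlus`, `quadPlus_nondegenerate` : the hyperbolic model as a quadratic form
-/

set_option autoImplicit false
set_option linter.unusedSectionVars false

namespace Cfsg.Agent.OrthAct

open Cfsg Cfsg.Agent Cfsg.Agent.Orth Matrix Module
open QuadraticMap (polar)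

variable {ι : Type} [Fintype ι] [DecidableEq ι] {F : Type*} [Field F]
variable {Q : QuadraticForm F (ι → F)}

theorem polar_eq_zero_of_singular {U : Submodule F (ι → F)} (hU : ∀ u ∈ U, Q u = 0) {x y : ι → F}
    (hx : x ∈ U) (hy : y ∈ U) : polar ⇑Q x y = 0 := by
  simp [polar, hU x hx, hU y hy, hU _ (U.add_mem hx hy)]

theorem orth_eq_self (hQ : Q.polarBilin.Nondegenerate) {m : ℕ} (hι : Fintype.card ι = 2 * m)
    {U : Submodule F (ι → F)} (hm : finrank F U = m) (hU : ∀ u ∈ U, Q u = 0) :
    LinearMap.BilinForm.orthogonal Q.polarBilin U = U := by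
  refine (Submodule.eq_of_le_of_finrank_eq (fun x hx y hy => ?_) ?_).symm
  · exact polar_eq_zero_of_singular hU hy hx
  · rw [LinearMap.BilinForm.finrank_orthogonal hQ, finrank_space, hι, hm]
    omega

theorem mem_or_mem_of_subset_union {U V W : Submodule F (ι → F)} (h : ∀ x ∈ U, x ∈ V ∨ x ∈ W) :
    U ≤ V ∨ U ≤ W := by
  by_contra hn
  obtain ⟨h1, h2⟩ := not_or.1 hn
  obtain ⟨a, ha, ha'⟩ := SetLike.not_le_iff_exists.1 h1
  obtain ⟨b, hb, hb'⟩ := SetLike.not_le_iff_exists.1 h2
  have haW : a ∈ W := (h a ha).resolve_left ha'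
  have hbV : b ∈ V := (h b hb).resolve_right hb'
  rcases h _ (U.add_mem ha hb) with hs | hs
  · exact ha' ((V.add_mem_iff_left hbV).1 hs)
  · exact hb' ((W.add_mem_iff_right haW).1 hs)

/-- A reflection moves a maximal singular subspace into the other class. -/
theorem finrank_inf_flip (hQ : Q.polarBilin.Nondegenerate) {m : ℕ} (hι : Fintype.card ι = 2 * m)
    {U W : Submodule F (ι → F)} (hUm : finrank F U = m) (hU : ∀ u ∈ U, Q u = 0)
    (hWm : finrank F W = m) (hW : ∀ w ∈ W, Q w = 0) {v : ι → F} (hv : Q v ≠ 0) :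
    finrank F (U ⊓ W : Submodule F (ι → F)) + 1 =
        finrank F (U ⊓ W.map (ap (refl Q v)) : Submodule F (ι → F)) ∨
      finrank F (U ⊓ W.map (ap (refl Q v)) : Submodule F (ι → F)) + 1 =
        finrank F (U ⊓ W : Submodule F (ι → F)) := by
  set r := refl Q v with hr
  set W' := W.map (ap r) with hW'
  set H := W ⊓ LinearMap.ker (Q.polarBilin v) with hH
  have hmem : ∀ {x}, x ∈ LinearMap.ker (Q.polarBilin v) ↔ polar ⇑Q v x = 0 := Iff.rfl
  -- the hyperplane of `W` fixed by the reflection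
  obtain ⟨w0, hw0, hw0'⟩ : ∃ w0 ∈ W, polar ⇑Q v w0 ≠ 0 := by
    by_contra! h
    have : v ∈ LinearMap.BilinForm.orthogonal Q.polarBilin W := fun x hx => by
      show polar ⇑Q x v = 0
      rw [pl_comm]; exact h x hx
    rw [orth_eq_self hQ hι hWm hW] at this
    exact hv (hW v this)
  have hdec : ∀ x ∈ W, x - (polar ⇑Q v x / polar ⇑Q v w0) • w0 ∈ H := fun x hx =>
    ⟨W.sub_mem hx (W.smul_mem _ hw0), by
      show polar ⇑Q v _ = 0
      rw [pl_sub_right, pl_smul_right, div_mul_cancel₀ _ hw0', sub_self]⟩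
  have hw0H : w0 ∉ H := fun h => hw0' (hmem.1 h.2)
  have hW_eq : W = H ⊔ F ∙ w0 := by
    refine le_antisymm (fun x hx => ?_) (sup_le inf_le_left ((Submodule.span_singleton_le_iff_mem _ _).2 hw0))
    rw [← sub_add_cancel x ((polar ⇑Q v x / polar ⇑Q v w0) • w0)]
    exact Submodule.add_mem_sup (hdec x hx) (Submodule.smul_mem _ _ (Submodule.mem_span_singleton_self w0))
  have hw00 : w0 ≠ 0 := fun h => hw0H (h ▸ H.zero_mem)
  have hHm : finrank F H + 1 = m := by
    have hdisj : H ⊓ (F ∙ w0) = ⊥ := by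
      rw [eq_bot_iff]
      rintro x ⟨hx, hx'⟩
      obtain ⟨c, rfl⟩ := Submodule.mem_span_singleton.1 hx'
      by_cases hc : c = 0
      · simp [hc]
      · exact absurd ((H.smul_mem_iff hc).1 hx) hw0H
    have := Submodule.finrank_sup_add_finrank_inf_eq H (F ∙ w0)
    rw [← hW_eq, hdisj, finrank_bot, finrank_span_singleton hw00, hWm] at this
    omega
  have hfix : ∀ x ∈ H, ap r x = x := fun x hx => refl_ap_of_orth Q (hmem.1 hx.2)
  have hHW' : H ≤ W' := fun x hx => ⟨x, hx.1, hfix x hx⟩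
  have hW'0 : ∀ x ∈ W', Q x = 0 := by
    rintro _ ⟨x, hx, rfl⟩
    rw [Q_ap, hW x hx]
  -- `W ∩ W' = H`
  have hWW' : ∀ x ∈ W, x ∈ W' → x ∈ H := by
    rintro x hx ⟨y, hy, hyx⟩
    refine ⟨hx, hmem.2 ?_⟩
    rw [hr, refl_ap] at hyx
    have hvy : ((Q v)⁻¹ * polar ⇑Q v y) • v ∈ W := by
      have : ((Q v)⁻¹ * polar ⇑Q v y) • v = y - x := by rw [← hyx, sub_sub_cancel]
      rw [this]; exact W.sub_mem hy hx
    have : (Q v)⁻¹ * polar ⇑Q v y = 0 := by
      by_contra hc
      exact hv (hW v ((W.smul_mem_iff hc).1 hvy))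
    rw [this, zero_smul, sub_zero] at hyx
    rw [← hyx]
    exact (mul_eq_zero.1 this).resolve_left (inv_ne_zero hv)
  -- the orthogonal complement of `H`
  set Hp := LinearMap.BilinForm.orthogonal Q.polarBilin H with hHp
  have hWHp : W ≤ Hp := fun x hx y hy => polar_eq_zero_of_singular hW hy.1 hx
  have hvHp : v ∈ Hp := fun y hy => by
    show polar ⇑Q y v = 0
    rw [pl_comm]; exact hmem.1 hy.2
  have hHp_eq : Hp = W ⊔ F ∙ v := by
    refine (Submodule.eq_of_le_of_finrank_eq (sup_le hWHp ((Submodule.span_singleton_le_iff_mem _ _).2 hvHp)) ?_).symm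
    have hdisj : W ⊓ (F ∙ v) = ⊥ := by
      rw [eq_bot_iff]
      rintro x ⟨hx, hx'⟩
      obtain ⟨c, rfl⟩ := Submodule.mem_span_singleton.1 hx'
      by_cases hc : c = 0
      · simp [hc]
      · exact absurd (hW v ((W.smul_mem_iff hc).1 hx)) hv
    have h1 := Submodule.finrank_sup_add_finrank_inf_eq W (F ∙ v)
    rw [hdisj, finrank_bot, finrank_span_singleton (fun h => hv (by rw [h, QuadraticMap.map_zero])),
      hWm] at h1
    rw [LinearMap.BilinForm.finrank_orthogonal hQ, finrank_space, hι]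
    omega
  -- singular vectors of `Hp` lie in `W` or `W'`
  have hsing : ∀ y ∈ Hp, Q y = 0 → y ∈ W ∨ y ∈ W' := by
    intro y hy hy0
    rw [hHp_eq, Submodule.mem_sup] at hy
    obtain ⟨w, hw, z, hz, rfl⟩ := hy
    obtain ⟨t, rfl⟩ := Submodule.mem_span_singleton.1 hz
    rw [Q_add, Q_smul, pl_smul_right, hW w hw, pl_comm] at hy0
    by_cases ht : t = 0
    · left; simpa [ht] using hw
    · right
      refine ⟨w, hw, ?_⟩
      rw [hr, refl_ap]
      have : polar ⇑Q v w = -(t * Q v) := mul_left_cancel₀ ht (by linear_combination hy0)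
      rw [this, mul_neg, mul_left_comm, inv_mul_cancel₀ hv, mul_one, neg_smul, sub_neg_eq_add]
  -- the vectors of `U` orthogonal to `H`
  set P := U ⊓ Hp with hP
  have hPdim : finrank F P = finrank F (U ⊓ H : Submodule F (ι → F)) + 1 := by
    have e : P = LinearMap.BilinForm.orthogonal Q.polarBilin (U ⊔ H) := by
      apply le_antisymm
      · rintro x ⟨hxU, hxH⟩ y hy
        obtain ⟨a, ha, b, hb, rfl⟩ := Submodule.mem_sup.1 hy
        show polar ⇑Q (a + b) x = 0
        rw [pl_add_left, polar_eq_zero_of_singular hU ha hxU, show polar ⇑Q b x = 0 from hxH b hb,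
          add_zero]
      · intro x hx
        refine ⟨?_, fun y hy => hx y (Submodule.mem_sup_right hy)⟩
        rw [← orth_eq_self hQ hι hUm hU]
        exact fun y hy => hx y (Submodule.mem_sup_left hy)
    have h1 := Submodule.finrank_sup_add_finrank_inf_eq U H
    have h2 := Submodule.finrank_mono (inf_le_left : U ⊓ H ≤ U)
    rw [e, LinearMap.BilinForm.finrank_orthogonal hQ, finrank_space, hι]
    rw [hUm] at h1 h2
    omega
  have hside := mem_or_mem_of_subset_union (U := P) (V := W) (W := W')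
    fun x hx => hsing x hx.2 (hU x hx.1)
  have hW'Hp : W' ≤ Hp := fun x hx y hy => polar_eq_zero_of_singular hW'0 (hHW' hy) hx
  rcases hside with hs | hs
  · right
    have e1 : U ⊓ W = P := le_antisymm (inf_le_inf_left U hWHp) (le_inf inf_le_left hs)
    have e2 : U ⊓ W' = U ⊓ H := le_antisymm
      (fun x hx => ⟨hx.1, hWW' x (hs ⟨hx.1, hW'Hp hx.2⟩) hx.2⟩) (inf_le_inf_left U hHW')
    rw [e1, e2, hPdim]
  · left
    have e1 : U ⊓ W' = P := le_antisymm (inf_le_inf_left U hW'Hp) (le_inf inf_le_left hs)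
    have e2 : U ⊓ W = U ⊓ H := le_antisymm
      (fun x hx => ⟨hx.1, hWW' x hx.2 (hs ⟨hx.1, hWHp hx.2⟩)⟩) (inf_le_inf_left U inf_le_left)
    rw [e1, e2, hPdim]

/-- The Dickson sign is the class parity. -/
theorem dick_eq_parity (hG : Good Q) {m : ℕ} (hι : Fintype.card ι = 2 * m)
    {U : Submodule F (ι → F)} (hUm : finrank F U = m) (hU : ∀ u ∈ U, Q u = 0) (g : IsoGrp Q) :
    dick g = (-1) ^ (m - finrank F (U ⊓ U.map (ap g) : Submodule F (ι → F))) := by
  induction g using reflGen_induction hG with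
  | one =>
    rw [dick_one, map_ap_eq_of_mapsTo (fun x hx => by rwa [ap_one]), inf_idem, hUm, Nat.sub_self,
      pow_zero]
  | mul v g hv ih =>
    rw [dick_refl_mul hG.nd g hv, map_ap_mul]
    have hdim : finrank F (U.map (ap g)) = m :=
      (Submodule.equivMapOfInjective (ap g) (fun a b h => ap_inj g h) U).finrank_eq.symm.trans hUm
    have hsing : ∀ w ∈ U.map (ap g), Q w = 0 := by
      rintro _ ⟨u, hu, rfl⟩
      rw [Q_ap, hU u hu]
    have hle : ∀ W : Submodule F (ι → F), finrank F (U ⊓ W : Submodule F (ι → F)) ≤ m := fun W =>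
      (Submodule.finrank_mono inf_le_left).trans hUm.le
    have h1 := hle (U.map (ap g))
    have h2 := hle ((U.map (ap g)).map (ap (refl Q v)))
    rw [ih]
    rcases finrank_inf_flip hG.nd hι hUm hU hdim hsing hv with h | h
    · rw [← h] at h2 ⊢
      generalize finrank F (U ⊓ U.map (ap g) : Submodule F (ι → F)) = a at h2 ⊢
      rw [show m - a = (m - (a + 1)) + 1 by omega, pow_succ]; ring
    · rw [← h] at h1 ⊢
      generalize finrank F (U ⊓ (U.map (ap g)).map (ap (refl Q v)) : Submodule F (ι → F)) = a at h1 ⊢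
      rw [show m - a = (m - (a + 1)) + 1 by omega, pow_succ]; ring

/-- The hyperbolic model. -/
noncomputable def quadPlus (m : ℕ) (F : Type*) [Field F] : QuadraticForm F (Fin m ⊕ Fin m → F) :=
  ∑ i : Fin m, QuadraticMap.proj (Sum.inl i) (Sum.inr i)

theorem quadPlus_coe (m : ℕ) : ⇑(quadPlus m F) = Cfsg.quadFormPlus m F := by
  funext v
  simp [quadPlus, Cfsg.quadFormPlus, QuadraticMap.sum_apply]

theorem quadPlus_polar (m : ℕ) (x y : Fin m ⊕ Fin m → F) :
    polar ⇑(quadPlus m F) x y =
      ∑ i, (x (Sum.inl i) * y (Sum.inr i) + y (Sum.inl i) * x (Sum.inr i)) := by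
  rw [polar, quadPlus_coe]
  simp only [Cfsg.quadFormPlus, ← Finset.sum_sub_distrib]
  exact Finset.sum_congr rfl fun i _ => by simp only [Pi.add_apply]; ring

theorem quadPlus_nondegenerate (m : ℕ) : (quadPlus m F).polarBilin.Nondegenerate := by
  classical
  have key : ∀ x, (∀ y, polar ⇑(quadPlus m F) x y = 0) → x = 0 := by
    intro x hx
    funext s
    rcases s with i | i
    · have := hx (Pi.single (Sum.inr i) 1)
      simpa [quadPlus_polar, Pi.single_apply] using this
    · have := hx (Pi.single (Sum.inl i) 1)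
      simpa [quadPlus_polar, Pi.single_apply] using this
  exact ⟨key, fun x hx => key x fun y => by rw [pl_comm]; exact hx y⟩

theorem good_quadPlus [Fintype F] (m : ℕ) (h : Fintype.card F ≠ 2 ∨ m ≠ 2) : Good (quadPlus m F) :=
  Good.of_card (quadPlus_nondegenerate m) (h.imp_right fun h' => by simp; omega)

/-- The subspace `y = 0`. -/
theorem base_subspace_facts (m : ℕ) :
    finrank F (LinearMap.ker (LinearMap.funLeft F F (Sum.inr : Fin m → Fin m ⊕ Fin m))) = m ∧
      ∀ u ∈ LinearMap.ker (LinearMap.funLeft F F (Sum.inr : Fin m → Fin m ⊕ Fin m)),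
        quadPlus m F u = 0 := by
  constructor
  · have h := LinearMap.finrank_range_add_finrank_ker
      (LinearMap.funLeft F F (Sum.inr : Fin m → Fin m ⊕ Fin m))
    rw [LinearMap.range_eq_top.2 (LinearMap.funLeft_surjective_of_injective F F _ Sum.inr_injective),
      finrank_top] at h
    simp at h
    omega
  · intro u hu
    rw [quadPlus_coe]
    exact Finset.sum_eq_zero fun i _ => by
      have : u (Sum.inr i) = 0 := congrFun (LinearMap.mem_ker.1 hu) i
      rw [this, mul_zero]

end Cfsg.Agent.OrthAct
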