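import Cfsg.Agent.Lib.Orth.Spinor
import Cfsg.Agent.Lib.Orth.Eichler
import Cfsg.Agent.Lib.Forms.Witt

/-!
# Transitivity of `Ω` through Witt's theorem and correction by stabilisers

* `ofEquiv` : a `Q`-preserving linear automorphism as an element of `IsoGrp Q`
* `exists_iso_map` : Witt's theorem for `IsoGrp Q`
* `exists_stab_two` : correction by reflections in a non-degenerate subspace of dimension `≥ 2`
* `torusStab`, `exists_stab_singular` : corrections stabilising a totally singular subspace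
-/

set_option autoImplicit false
set_option linter.unusedSectionVars false

namespace Cfsg.Agent.OrthAct

open Cfsg Cfsg.Agent Cfsg.Agent.Orth Matrix Module
open QuadraticMap (polar)

variable {ι : Type} [Fintype ι] [DecidableEq ι] {F : Type*} [Field F]
variable {Q : QuadraticForm F (ι → F)}

theorem ofEquiv_exists (g : (ι → F) ≃ₗ[F] (ι → F)) (hg : ∀ v, Q (g v) = Q v) :
    ∃ x : IsoGrp Q, ∀ v, ap x v = g v := by
  let u : GL ι F := ⟨LinearMap.toMatrix' g.toLinearMap, LinearMap.toMatrix' g.symm.toLinearMap,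
    by rw [← LinearMap.toMatrix'_comp]; simp, by rw [← LinearMap.toMatrix'_comp]; simp⟩
  have hu : ∀ v, ((u : Matrix ι ι F) *ᵥ v) = g v := fun v => LinearMap.toMatrix'_mulVec _ v
  refine ⟨⟨u, fun v _ => ?_⟩, hu⟩
  show Q ((u : Matrix ι ι F) *ᵥ v) = Q v
  rw [hu, hg]

/-- Witt's theorem: a form-preserving isomorphism between subspaces extends to an isometry. -/
theorem exists_iso_map (hQ : Q.polarBilin.Nondegenerate) {X Y : Submodule F (ι → F)} (φ : X ≃ₗ[F] Y)
    (hφ : ∀ x : X, Q (φ x : ι → F) = Q (x : ι → F)) :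
    ∃ g : IsoGrp Q, (∀ x : X, ap g (x : ι → F) = (φ x : ι → F)) ∧ X.map (ap g) = Y := by
  obtain ⟨g, hg, hgx⟩ := Forms.witt_quadratic Q hQ X Y φ hφ
  obtain ⟨x, hx⟩ := ofEquiv_exists g hg
  refine ⟨x, fun v => (hx v).trans (hgx v), le_antisymm ?_ ?_⟩
  · rintro _ ⟨v, hv, rfl⟩
    rw [hx, show g v = (φ ⟨v, hv⟩ : ι → F) from hgx ⟨v, hv⟩]
    exact (φ ⟨v, hv⟩).2
  · intro y hy
    refine ⟨(φ.symm ⟨y, hy⟩ : X), (φ.symm ⟨y, hy⟩).2, ?_⟩
    rw [hx, hgx, LinearEquiv.apply_symm_apply]

theorem map_ap_mul (g h : IsoGrp Q) (U : Submodule F (ι → F)) :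
    U.map (ap (g * h)) = (U.map (ap h)).map (ap g) := by
  rw [← Submodule.map_comp]
  congr 1
  exact LinearMap.ext fun x => ap_mul g h x

theorem map_ap_eq_of_mapsTo {g : IsoGrp Q} {U : Submodule F (ι → F)} (h : ∀ x ∈ U, ap g x ∈ U) :
    U.map (ap g) = U := by
  refine Submodule.eq_of_le_of_finrank_eq (by rintro _ ⟨x, hx, rfl⟩; exact h x hx) ?_
  exact (Submodule.equivMapOfInjective (ap g) (fun a b hab => ap_inj g hab) U).finrank_eq.symm

variable [Fintype F]

/-- A subgroup meeting every (Dickson, spinor) class carries `U` to wherever `O(Q)` does. -/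
theorem exists_omega_map (hG : Good Q) {U W : Submodule F (ι → F)} (g : IsoGrp Q)
    (hg : U.map (ap g) = W)
    (hstab : ∃ h : IsoGrp Q, U.map (ap h) = U ∧ dick h = dick g ∧ spin h = spin g) :
    ∃ x : IsoGrp Q, x ∈ Omega F ⇑Q ∧ U.map (ap x) = W := by
  obtain ⟨h, hU, hd, hs⟩ := hstab
  refine ⟨g * h, (mem_omega_iff hG _).2 ?_, by rw [map_ap_mul, hU, hg]⟩
  rw [dick_mul hG, spin_mul hG, hd, hs]
  constructor
  · rcases dick_eq_or g with h' | h' <;> rw [h'] <;> norm_num
  · rcases spin_eq_or hG g with h' | h' <;> rw [h'] <;> norm_num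

/-- Values of `quadraticChar` needed to hit a spinor value. -/
theorem exists_char_eq (hG : Good Q) (g : IsoGrp Q) :
    ∃ c : F, c ≠ 0 ∧ ∀ [DecidableEq F], quadraticChar F c = spin g := by
  classical
  rcases spin_eq_or hG g with h | h
  · exact ⟨1, one_ne_zero, fun {d} => by rw [map_one, h]⟩
  · have h2 : ringChar F ≠ 2 := fun h2 => by
      have h20 : (2 : F) = 0 := by
        have := CharP.cast_eq_zero F (ringChar F)
        rw [h2] at this
        exact_mod_cast this
      rw [spin_eq_one_of_two hG h20] at h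
      norm_num at h
    obtain ⟨c, hc⟩ := quadraticChar_exists_neg_one' (F := F) h2
    refine ⟨(c : F), c.ne_zero, fun {d} => ?_⟩
    rw [h, ← hc]
    congr!

/-- If `W` carries vectors of every norm, products of their reflections take every sign pair. -/
theorem exists_stab_signs (hG : Good Q) (g : IsoGrp Q) (W : Submodule F (ι → F))
    (hW : ∀ c : F, c ≠ 0 → ∃ v ∈ W, Q v = c) (U : Submodule F (ι → F))
    (hfix : ∀ v ∈ W, U.map (ap (refl Q v)) = U) :
    ∃ h : IsoGrp Q, U.map (ap h) = U ∧ dick h = dick g ∧ spin h = spin g := by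
  classical
  obtain ⟨c, hc, hc'⟩ := exists_char_eq hG g
  obtain ⟨v, hv, hQv⟩ := hW c hc
  have hv0 : Q v ≠ 0 := hQv ▸ hc
  have hsv : spin (refl Q v) = spin g := by rw [spin_refl hG.nd hv0, hQv, hc']
  rcases dick_eq_or g with hd | hd
  · obtain ⟨u, hu, hQu⟩ := hW 1 one_ne_zero
    have hu0 : Q u ≠ 0 := hQu ▸ one_ne_zero
    refine ⟨refl Q u * refl Q v, by rw [map_ap_mul, hfix v hv, hfix u hu], ?_, ?_⟩
    · rw [dick_mul hG, dick_refl hG.nd hu0, dick_refl hG.nd hv0, hd]; norm_num
    · rw [spin_mul hG, spin_refl hG.nd hu0, hsv, hQu, map_one, one_mul]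
  · exact ⟨refl Q v, hfix v hv, by rw [dick_refl hG.nd hv0, hd], hsv⟩

theorem refl_map_of_mem {U : Submodule F (ι → F)} {v : ι → F} (hv : v ∈ U) :
    U.map (ap (refl Q v)) = U :=
  map_ap_eq_of_mapsTo fun x hx => by
    rw [refl_ap]
    exact U.sub_mem hx (U.smul_mem _ hv)

theorem refl_map_of_orth {U : Submodule F (ι → F)} {v : ι → F}
    (hv : ∀ x ∈ U, polar ⇑Q v x = 0) : U.map (ap (refl Q v)) = U :=
  map_ap_eq_of_mapsTo fun x hx => by rwa [refl_ap_of_orth Q (hv x hx)]

/-! ### the torus element of a hyperbolic pair -/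

/-- `r_{e+f} r_{e+tf}`: Dickson sign `1`, spinor value the class of `t`; stabilises every totally
isotropic subspace through `e`. -/
def torusStab (Q : QuadraticForm F (ι → F)) (e f : ι → F) (t : F) : IsoGrp Q :=
  refl Q (e + f) * refl Q (e + t • f)

theorem Q_plane {e f : ι → F} (h : HPair Q e f) (t : F) : Q (e + t • f) = t := by
  rw [Q_add, Q_smul, pl_smul_right, h.qe, h.qf, h.pf]; ring

theorem dick_torusStab (hG : Good Q) {e f : ι → F} (h : HPair Q e f) {t : F} (ht : t ≠ 0) :
    dick (torusStab Q e f t) = 1 := by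
  have h1 : Q (e + f) ≠ 0 := by
    have := Q_plane h 1
    rw [one_smul] at this
    simp [this]
  rw [torusStab, dick_mul hG, dick_refl hG.nd h1, dick_refl hG.nd (by rw [Q_plane h]; exact ht)]
  norm_num

theorem spin_torusStab [DecidableEq F] (hG : Good Q) {e f : ι → F} (h : HPair Q e f) {t : F}
    (ht : t ≠ 0) : spin (torusStab Q e f t) = quadraticChar F t := by
  have h1 : Q (e + f) = 1 := by
    have := Q_plane h 1
    rwa [one_smul] at this
  rw [torusStab, spin_mul hG, spin_refl hG.nd (by rw [h1]; exact one_ne_zero),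
    spin_refl hG.nd (by rw [Q_plane h]; exact ht), h1, Q_plane h, map_one, one_mul]
  congr!

theorem torusStab_map {e f : ι → F} (h : HPair Q e f) {t : F} (ht : t ≠ 0)
    {U : Submodule F (ι → F)} (he : e ∈ U) (hU : ∀ x ∈ U, ∀ y ∈ U, polar ⇑Q x y = 0) :
    U.map (ap (torusStab Q e f t)) = U :=
  map_ap_eq_of_mapsTo fun x hx => by
    have h1 : Q (e + f) = 1 := by
      have := Q_plane h 1
      rwa [one_smul] at this
    have hee : polar ⇑Q e e = 0 := hU e he e he
    have hff : polar ⇑Q f f = 0 := by rw [pl_self, h.qf, mul_zero]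
    have hfe : polar ⇑Q f e = 1 := by rw [pl_comm]; exact h.pf
    have key : ap (torusStab Q e f t) x = x + ((t - 1) * polar ⇑Q f x) • e := by
      rw [torusStab, ap_mul, refl_ap, refl_ap, Q_plane h, h1, inv_one, one_mul]
      simp only [pl_add_left, pl_smul_left, pl_sub_right, pl_smul_right, pl_add_right,
        hU e he x hx, hee, hff, hfe, h.pf, zero_add, mul_zero, add_zero, mul_one]
      rw [inv_mul_cancel_left₀ ht]
      module
    rw [key]
    exact U.add_mem hx (U.smul_mem _ he)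

theorem exists_stab_torus (hG : Good Q) (g : IsoGrp Q) {U : Submodule F (ι → F)} (hU0 : U ≠ ⊥)
    (hU : ∀ u ∈ U, Q u = 0) :
    ∃ h : IsoGrp Q, U.map (ap h) = U ∧ dick h = 1 ∧ spin h = spin g := by
  classical
  obtain ⟨e, he, he0⟩ := Submodule.exists_mem_ne_zero_of_ne_bot hU0
  obtain ⟨f, hf⟩ := exists_hpair_left hG.nd (hU e he) he0
  obtain ⟨c, hc, hc'⟩ := exists_char_eq hG g
  have hiso : ∀ x ∈ U, ∀ y ∈ U, polar ⇑Q x y = 0 := fun x hx y hy => by
    simp [polar, hU x hx, hU y hy, hU _ (U.add_mem hx hy)]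
  exact ⟨torusStab Q e f c, torusStab_map hf hc he hiso, dick_torusStab hG hf hc,
    by rw [spin_torusStab hG hf hc, hc']⟩

/-- Totally singular subspaces below half the dimension: every sign pair occurs in the stabiliser. -/
theorem exists_stab_singular (hG : Good Q) (g : IsoGrp Q) {U : Submodule F (ι → F)}
    (hk : 2 * finrank F U < Fintype.card ι) (hU0 : U ≠ ⊥) (hU : ∀ u ∈ U, Q u = 0) :
    ∃ h : IsoGrp Q, U.map (ap h) = U ∧ dick h = dick g ∧ spin h = spin g := by
  classical
  rcases dick_eq_or g with hd | hd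
  · obtain ⟨h, h1, h2, h3⟩ := exists_stab_torus hG g hU0 hU
    exact ⟨h, h1, h2.trans hd.symm, h3⟩
  -- a nonsingular vector orthogonal to `U`
  obtain ⟨v, hv, hv0⟩ : ∃ v ∈ LinearMap.BilinForm.orthogonal Q.polarBilin U, Q v ≠ 0 := by
    by_contra! h
    have h1 := two_mul_finrank_le_of_isotropic hG.nd (LinearMap.BilinForm.orthogonal Q.polarBilin U)
      fun x hx y hy => show polar ⇑Q x y = 0 by
        simp [polar, h x hx, h y hy, h _ (Submodule.add_mem _ hx hy)]
    rw [LinearMap.BilinForm.finrank_orthogonal hG.nd, finrank_space] at h1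
    omega
  obtain ⟨h, h1, h2, h3⟩ := exists_stab_torus hG (refl Q v * g) hU0 hU
  refine ⟨refl Q v * h, ?_, ?_, ?_⟩
  · rw [map_ap_mul, h1]
    refine refl_map_of_orth fun x hx => ?_
    rw [pl_comm]
    exact hv x hx
  · rw [dick_refl_mul hG.nd _ hv0, h2, hd]
  · rw [spin_refl_mul hG.nd _ hv0, h3, spin_refl_mul hG.nd _ hv0, ← mul_assoc, ← sq,
      quadraticChar_sq_one hv0, one_mul]

end Cfsg.Agent.OrthAct
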