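import Cfsg.Agent.Lib.OrthAct.Stab

/-!
# Orthogonal direct sums on coordinate spaces

`sumForm Q₁ Q₂` on `ι ⊕ κ → F`; `inlHom` : `O(Q₁) →* O(Q₁ ⊕ Q₂)`; `dick`/`spin` of its image.
-/

set_option autoImplicit false
set_option linter.unusedSectionVars false

namespace Cfsg.Agent.OrthAct

open Cfsg Cfsg.Agent Cfsg.Agent.Orth Matrix Module
open QuadraticMap (polar)

variable {ι κ : Type} [Fintype ι] [DecidableEq ι] [Fintype κ] [DecidableEq κ] {F : Type*} [Field F]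

/-- The orthogonal sum. -/
noncomputable def sumForm (Q₁ : QuadraticForm F (ι → F)) (Q₂ : QuadraticForm F (κ → F)) :
    QuadraticForm F (ι ⊕ κ → F) :=
  Q₁.comp (LinearMap.funLeft F F Sum.inl) + Q₂.comp (LinearMap.funLeft F F Sum.inr)

variable {Q₁ : QuadraticForm F (ι → F)} {Q₂ : QuadraticForm F (κ → F)}

theorem sumForm_coe : ⇑(sumForm Q₁ Q₂) =
    fun v : ι ⊕ κ → F => Q₁ (v ∘ Sum.inl) + Q₂ (v ∘ Sum.inr) := rfl

theorem sumForm_polar (x y : ι ⊕ κ → F) : polar ⇑(sumForm Q₁ Q₂) x y =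
    polar ⇑Q₁ (x ∘ Sum.inl) (y ∘ Sum.inl) + polar ⇑Q₂ (x ∘ Sum.inr) (y ∘ Sum.inr) := by
  simp only [polar, sumForm_coe, Pi.add_comp]
  ring

theorem sumForm_nondegenerate (h₁ : Q₁.polarBilin.Nondegenerate) (h₂ : Q₂.polarBilin.Nondegenerate) :
    (sumForm Q₁ Q₂).polarBilin.Nondegenerate := by
  have key : ∀ x, (∀ y, polar ⇑(sumForm Q₁ Q₂) x y = 0) → x = 0 := by
    intro x hx
    rw [← Sum.elim_comp_inl_inr x]
    have e1 : x ∘ Sum.inl = 0 := h₁.1 _ fun z => by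
      have := hx (Sum.elim z 0)
      rw [sumForm_polar, Sum.elim_comp_inl, Sum.elim_comp_inr, pl_zero_right, add_zero] at this
      exact this
    have e2 : x ∘ Sum.inr = 0 := h₂.1 _ fun z => by
      have := hx (Sum.elim 0 z)
      rw [sumForm_polar, Sum.elim_comp_inl, Sum.elim_comp_inr, pl_zero_right, zero_add] at this
      exact this
    rw [e1, e2]
    funext s; cases s <;> rfl
  exact ⟨key, fun x hx => key x fun y => by rw [pl_comm]; exact hx y⟩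

theorem inlHom_exists : ∃ φ : IsoGrp Q₁ →* IsoGrp (sumForm Q₁ Q₂), ∀ g,
    ((φ g : GL (ι ⊕ κ) F) : Matrix (ι ⊕ κ) (ι ⊕ κ) F) =
      Matrix.fromBlocks ((g : GL ι F) : Matrix ι ι F) 0 0 1 := by
  let M : IsoGrp Q₁ →* Matrix (ι ⊕ κ) (ι ⊕ κ) F :=
    { toFun := fun g => Matrix.fromBlocks ((g : GL ι F) : Matrix ι ι F) 0 0 1
      map_one' := by simp [Matrix.fromBlocks_one]
      map_mul' := fun g h => by simp [Matrix.fromBlocks_multiply] }
  refine ⟨M.toHomUnits.codRestrict _ fun g u _ => ?_, fun g => rfl⟩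
  show sumForm Q₁ Q₂ (M g *ᵥ u) = sumForm Q₁ Q₂ u
  have h := g.2 (u ∘ Sum.inl) (u ∘ Sum.inl)
  simp [M, sumForm_coe, Matrix.fromBlocks_mulVec, Sum.elim_comp_inl, Sum.elim_comp_inr] at h ⊢
  exact h

/-- Extension by the identity. -/
noncomputable def inlHom (Q₁ : QuadraticForm F (ι → F)) (Q₂ : QuadraticForm F (κ → F)) :
    IsoGrp Q₁ →* IsoGrp (sumForm Q₁ Q₂) := (inlHom_exists (Q₁ := Q₁) (Q₂ := Q₂)).choose

theorem inlHom_mat (g : IsoGrp Q₁) :
    ((inlHom Q₁ Q₂ g : GL (ι ⊕ κ) F) : Matrix (ι ⊕ κ) (ι ⊕ κ) F) =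
      Matrix.fromBlocks ((g : GL ι F) : Matrix ι ι F) 0 0 1 :=
  (inlHom_exists (Q₁ := Q₁) (Q₂ := Q₂)).choose_spec g

theorem inlHom_refl {v : ι → F} (hv : Q₁ v ≠ 0) :
    inlHom Q₁ Q₂ (refl Q₁ v) = refl (sumForm Q₁ Q₂) (Sum.elim v 0) := by
  refine ext_ap fun x => ?_
  rw [ap_apply, inlHom_mat, Matrix.fromBlocks_mulVec, refl_ap, ← ap_apply, refl_ap, sumForm_polar]
  simp only [sumForm_coe, Sum.elim_comp_inl, Sum.elim_comp_inr, QuadraticMap.map_zero, add_zero,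
    pl_zero_left, Matrix.zero_mulVec, Matrix.one_mulVec, zero_add]
  funext s; cases s <;> simp

theorem inlHom_signs [Fintype F] (hG₁ : Good Q₁) (hG : Good (sumForm Q₁ Q₂)) (g : IsoGrp Q₁) :
    dick (inlHom Q₁ Q₂ g) = dick g ∧ spin (inlHom Q₁ Q₂ g) = spin g := by
  classical
  induction g using reflGen_induction hG₁ with
  | one => simp only [map_one, dick_one, spin_one, and_self]
  | mul v g hv ih =>
    have hv' : sumForm Q₁ Q₂ (Sum.elim v 0) ≠ 0 := by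
      rw [sumForm_coe]
      simpa [Sum.elim_comp_inl, Sum.elim_comp_inr] using hv
    rw [map_mul, inlHom_refl hv, dick_refl_mul hG.nd _ hv', dick_refl_mul hG₁.nd _ hv,
      spin_refl_mul hG.nd _ hv', spin_refl_mul hG₁.nd _ hv, ih.1, ih.2]
    exact ⟨rfl, by simp [sumForm_coe, Sum.elim_comp_inl, Sum.elim_comp_inr]⟩

theorem inlHom_mem_omega {g : IsoGrp Q₁} (hg : g ∈ Omega F ⇑Q₁) :
    inlHom Q₁ Q₂ g ∈ Omega F ⇑(sumForm Q₁ Q₂) := by
  have h : (commutator (IsoGrp Q₁)).map (inlHom Q₁ Q₂) ≤ commutator (IsoGrp (sumForm Q₁ Q₂)) := by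
    rw [commutator_def, Subgroup.map_commutator]
    exact Subgroup.commutator_mono le_top le_top
  exact h ⟨g, hg, rfl⟩

end Cfsg.Agent.OrthAct
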